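import Cfsg.Agent.Lib.Recog.SporBound.Sound
import Cfsg.Agent.Lib.Recog.SporBound.HeL.Tree0

set_option autoImplicit false
set_option maxRecDepth 20000

/-! Generated closure certificate: He, <a,c,d,e,f,g> over <a,c,d,e> (owner: lead). -/

namespace CfsgLib.Recog.SporBound.HeL
open CfsgLib.Recog.SporBound

noncomputable def factTree : Q (ℕ) := (.node ft5 ft11 ft17 ft23)
noncomputable def nodeTree : Q (ℕ) := ct6
noncomputable def stepTree : Q (List ℕ) := (.node st7 st15 st23 st31)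
noncomputable def finalTree : Q (List ℕ) := (.node et16 et33 et50 et66)

/-- The certificate. -/
noncomputable def cert : Cert where
  n := 672
  nd := 689
  nf := 2454
  kl := [0, 2, 3, 4, 5, 6]
  facts := factTree
  cn := nodeTree
  steps := stepTree
  finals := finalTree
  rels := [[0, 0], [2, 2], [3, 3], [4, 4], [5, 5], [6, 6], [0, 2, 0, 2], [0, 3, 0, 3], [0, 4, 0, 4], [0, 5, 0, 5], [0, 6, 0, 6], [2, 3, 2, 3, 2, 3, 2, 3, 2, 3, 2, 3, 2, 3, 2, 3, 2, 3, 2, 3], [2, 4, 2, 4], [2, 5, 2, 5], [2, 6, 2, 6], [3, 4, 3, 4, 3, 4], [3, 5, 3, 5, 3, 5], [3, 6, 3, 6, 3, 6], [4, 5, 4, 5], [4, 6, 4, 6], [5, 6, 5, 6, 5, 6, 5, 6], [4, 6, 5, 6, 5], [0, 3, 2, 3, 2, 3, 2, 3, 2, 3, 2], [2, 3, 5, 6, 2, 3, 5, 6, 2, 3, 5, 6, 2, 3, 5, 6], [2, 3, 2, 3, 4, 3, 2, 3, 2, 3, 4, 3, 2, 3, 4]]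
  subs := [[0], [2], [3], [4]]

/-- Chains of the traced words. -/
noncomputable def closers : List ℕ := []

end CfsgLib.Recog.SporBound.HeL
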